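import Cfsg.Agent.IsolatedP.RankOne
import Cfsg.Agent.Solvable.Basic
import Mathlib.Algebra.BigOperators.Group.Finset.Basic

/-!
# Groups acting freely off `p` on an abelian `p`-group, with vanishing `p`-norms

Let a group `A` act on an abelian group `V` so that elements of order prime to `p` fix no
nontrivial vector, and every `p`-element `s` has `∏_{i<p} s^i • v = 1`.  Then a `p`-element
centralises every subgroup of odd prime power order prime to `p` that it normalises, and, if `A`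
is solvable of odd order, a Sylow `p`-subgroup of `A` is normal.
-/

set_option autoImplicit false
set_option linter.unusedSectionVars false
set_option linter.style.haveILetI false

namespace CfsgLib.OneClassP

open Finset
open scoped Pointwise

universe u v

variable {A : Type u} [Group A] [Finite A] {V : Type v} [CommGroup V] {p : ℕ}

/-- The product along an orbit of a fixed-point-free element is trivial. -/
theorem prod_pow_act_eq_one (ρ : A →* MulAut V) {d : A} {n : ℕ} (hd : d ^ n = 1)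
    (hfix : ∀ w : V, ρ d w = w → w = 1) (v : V) : ∏ j ∈ range n, ρ (d ^ j) v = 1 := by
  refine hfix _ ?_
  rw [map_prod]
  have h1 : ∀ j, ρ d (ρ (d ^ j) v) = ρ (d ^ (j + 1)) v := fun j => by
    rw [pow_succ', map_mul]; rfl
  simp only [h1]
  have h2 := prod_range_succ' (fun j => ρ (d ^ j) v) n
  have h3 := prod_range_succ (fun j => ρ (d ^ j) v) n
  rw [h3, hd, pow_zero] at h2
  exact (mul_right_cancel h2).symm

variable [Fact p.Prime]

/-- Two commuting elements of prime order `q ≠ p` generate a cyclic group. -/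
theorem mem_zpowers_of_free (ρ : A →* MulAut V) (hV : IsPGroup p V) {v₀ : V} (hv₀ : v₀ ≠ 1)
    (hfree : ∀ a : A, a ≠ 1 → ¬ p ∣ orderOf a → ∀ w : V, ρ a w = w → w = 1)
    {q : ℕ} (hq : q.Prime) (hqp : q ≠ p) {a b : A} (hab : Commute a b)
    (ha : a ^ q = 1) (hb : b ^ q = 1) (hb1 : b ≠ 1) : a ∈ Subgroup.zpowers b := by
  by_contra hn
  have hfree' : ∀ c : A, c ^ q = 1 → c ≠ 1 → ∀ w : V, ρ c w = w → w = 1 := fun c hc hc1 =>
    hfree c hc1 (fun h => hqp
      ((Nat.prime_dvd_prime_iff_eq Fact.out hq).1 (h.trans (orderOf_dvd_of_pow_eq_one hc))).symm)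
  have hbo : orderOf b = q := by
    haveI := Fact.mk hq
    exact orderOf_eq_prime hb hb1
  have key : ∏ k ∈ range q, ∏ j ∈ range q, ρ ((a * b ^ k) ^ j) v₀ = 1 := by
    refine prod_eq_one fun k _ => prod_pow_act_eq_one ρ ?_ (hfree' _ ?_ ?_) v₀
    · rw [(hab.pow_right k).mul_pow, ha, ← pow_mul, mul_comm, pow_mul, hb, one_pow, one_mul]
    · rw [(hab.pow_right k).mul_pow, ha, ← pow_mul, mul_comm, pow_mul, hb, one_pow, one_mul]
    · intro h
      apply hn
      rw [eq_inv_of_mul_eq_one_left h]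
      exact inv_mem (Subgroup.pow_mem _ (Subgroup.mem_zpowers b) k)
  rw [prod_comm] at key
  obtain ⟨m, hm⟩ : ∃ m, q = m + 1 := ⟨q - 1, by have := hq.one_lt; omega⟩
  rw [show range q = range (m + 1) by rw [hm], prod_range_succ' _ m] at key
  have hz : ∀ j ∈ range m, ∏ k ∈ range (m + 1), ρ ((a * b ^ k) ^ (j + 1)) v₀ = 1 := by
    intro j hj
    rw [← hm]
    have h1 : ∀ k, ρ ((a * b ^ k) ^ (j + 1)) v₀ = ρ (a ^ (j + 1)) (ρ ((b ^ (j + 1)) ^ k) v₀) := by
      intro k
      rw [(hab.pow_right k).mul_pow, map_mul, ← pow_mul, ← pow_mul, mul_comm k]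
      rfl
    simp only [h1, ← map_prod]
    rw [prod_pow_act_eq_one ρ (by rw [← pow_mul, mul_comm, pow_mul, hb, one_pow])
      (hfree' _ (by rw [← pow_mul, mul_comm, pow_mul, hb, one_pow]) ?_) v₀, map_one]
    refine pow_ne_one_of_lt_orderOf (Nat.succ_ne_zero j) ?_
    rw [hbo, hm]
    exact Nat.succ_lt_succ (mem_range.1 hj)
  rw [prod_eq_one hz, one_mul] at key
  simp only [pow_zero, map_one, MulAut.one_apply, prod_const, card_range, ← hm] at key
  obtain ⟨e, he⟩ := hV v₀
  apply hv₀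
  refine orderOf_eq_one_iff.1 (Nat.dvd_one.1 ?_)
  have hco : Nat.Coprime (p ^ e) q :=
    Nat.Coprime.pow_left _ ((Nat.coprime_primes Fact.out hq).2 (Ne.symm hqp))
  rw [← Nat.coprime_iff_gcd_eq_one.1 hco]
  exact Nat.dvd_gcd (orderOf_dvd_of_pow_eq_one he) (orderOf_dvd_of_pow_eq_one key)

/-- Subgroups of odd prime power order prime to `p` are cyclic. -/
theorem isCyclic_of_free (ρ : A →* MulAut V) (hV : IsPGroup p V) {v₀ : V} (hv₀ : v₀ ≠ 1)
    (hfree : ∀ a : A, a ≠ 1 → ¬ p ∣ orderOf a → ∀ w : V, ρ a w = w → w = 1)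
    {q : ℕ} [Fact q.Prime] (hqp : q ≠ p) (hq2 : q ≠ 2) (R : Subgroup A) (hR : IsPGroup q R) :
    IsCyclic R := by
  have hq : q.Prime := Fact.out
  refine IsolatedP.isCyclic_of_card_pow_eq_one_le_prime q hq2 _ R rfl hR ?_
  rcases subsingleton_or_nontrivial R with hs | hs
  · exact le_trans (Finite.card_le_one_iff_subsingleton.2 inferInstance) hq.one_lt.le
  haveI := hR.center_nontrivial
  have hqZ : q ∣ Nat.card (Subgroup.center R) := by
    obtain ⟨k, hk⟩ := IsPGroup.iff_card.1 (hR.to_subgroup (Subgroup.center R))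
    rw [hk]
    refine dvd_pow_self q fun h0 => ?_
    rw [h0, pow_zero] at hk
    exact absurd hk (Finite.one_lt_card (α := Subgroup.center R)).ne'
  obtain ⟨z, hz⟩ := exists_prime_orderOf_dvd_card' q hqZ
  have hzo : orderOf ((z : R) : A) = q := by
    rw [Subgroup.orderOf_coe, Subgroup.orderOf_coe, hz]
  have hmem : ∀ y : {y : R // y ^ q = 1}, ((y.1 : R) : A) ∈ Subgroup.zpowers ((z : R) : A) := by
    intro y
    refine mem_zpowers_of_free ρ hV hv₀ hfree hq hqp ?_ ?_ ?_ ?_
    · show ((y.1 : R) : A) * ((z : R) : A) = ((z : R) : A) * ((y.1 : R) : A)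
      exact congrArg Subtype.val (Subgroup.mem_center_iff.1 z.2 y.1)
    · exact (SubgroupClass.coe_pow y.1 q).symm.trans (congrArg Subtype.val y.2)
    · rw [← hzo, pow_orderOf_eq_one]
    · intro h
      rw [h, orderOf_one] at hzo
      exact hq.ne_one hzo.symm
  calc Nat.card {y : R // y ^ q = 1}
      ≤ Nat.card (Subgroup.zpowers ((z : R) : A)) :=
        Nat.card_le_card_of_injective (fun y => ⟨_, hmem y⟩) fun y y' h =>
          Subtype.ext (Subtype.ext (congrArg (fun x : Subgroup.zpowers ((z : R) : A) => (x : A)) h))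
    _ = q := by rw [Nat.card_zpowers, hzo]

/-- A `p`-element normalising a cyclic subgroup of order prime to `p` centralises it. -/
theorem commute_of_norm (ρ : A →* MulAut V) (hV : IsPGroup p V) {v₀ : V} (hv₀ : v₀ ≠ 1)
    (hfree : ∀ a : A, a ≠ 1 → ¬ p ∣ orderOf a → ∀ w : V, ρ a w = w → w = 1)
    {s g : A} (hs : s ^ p = 1) (hnorm : ∀ v : V, ∏ i ∈ range p, ρ (s ^ i) v = 1)
    (hg : ¬ p ∣ orderOf g) (hsg : s * g * s⁻¹ ∈ Subgroup.zpowers g) : Commute s g := by
  by_contra hcom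
  have hconj : ∀ i : ℕ, s ^ i * g * (s ^ i)⁻¹ ∈ Subgroup.zpowers g := by
    intro i
    induction i with
    | zero => simp
    | succ i ih =>
      obtain ⟨m, hm : g ^ m = _⟩ := ih
      obtain ⟨r, hr : g ^ r = _⟩ := hsg
      refine ⟨r * m, show g ^ (r * m) = _ from ?_⟩
      rw [zpow_mul, hr, conj_zpow, hm, pow_succ', mul_inv_rev]
      group
  set n := orderOf g with hn
  set d : ℕ → A := fun i => g⁻¹ * (s ^ i * g * (s ^ i)⁻¹) with hd
  have hdmem : ∀ i, d i ∈ Subgroup.zpowers g := fun i =>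
    mul_mem (inv_mem (Subgroup.mem_zpowers g)) (hconj i)
  have hdpow : ∀ i, d i ^ n = 1 := fun i => by
    obtain ⟨m, hm : g ^ m = _⟩ := hdmem i
    rw [← hm, ← zpow_natCast, ← zpow_mul, mul_comm, zpow_mul, zpow_natCast, hn,
      pow_orderOf_eq_one, one_zpow]
  have hrew : ∀ i j : ℕ, (g ^ j)⁻¹ * s ^ i * g ^ j = d i ^ j * s ^ i := by
    intro i j
    have hc : Commute g⁻¹ (s ^ i * g * (s ^ i)⁻¹) := by
      obtain ⟨m, hm : g ^ m = _⟩ := hconj i
      rw [← hm]
      exact ((Commute.refl g).zpow_right m).inv_left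
    rw [hd]
    simp only [hc.mul_pow, conj_pow, inv_pow]
    group
  have hd1 : ∀ i, i ≠ 0 → i < p → d i ≠ 1 := by
    intro i hi0 hip h
    apply hcom
    have h1 : Commute (s ^ i) g := by
      have h2 : s ^ i * g * (s ^ i)⁻¹ = g := (inv_mul_eq_one.1 h).symm
      exact mul_inv_eq_iff_eq_mul.1 h2
    obtain ⟨t, ht⟩ : ∃ t, (s ^ i) ^ t = s := by
      refine exists_pow_eq_self_of_coprime (Nat.Coprime.coprime_dvd_right
        (orderOf_dvd_of_pow_eq_one hs) ?_)
      exact ((Fact.out : p.Prime).coprime_iff_not_dvd.2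
        (Nat.not_dvd_of_pos_of_lt (Nat.pos_of_ne_zero hi0) hip)).symm
    rw [← ht]
    exact h1.pow_left t
  have key : ∏ j ∈ range n, ∏ i ∈ range p, ρ (d i ^ j) (ρ (s ^ i) v₀) = 1 := by
    refine prod_eq_one fun j _ => ?_
    have h1 : ∀ i, ρ (d i ^ j) (ρ (s ^ i) v₀) = ρ (g ^ j)⁻¹ (ρ (s ^ i) (ρ (g ^ j) v₀)) := fun i => by
      rw [← MulAut.mul_apply, ← map_mul, ← hrew, map_mul, map_mul]
      rfl
    simp only [h1, ← map_prod]
    rw [hnorm, map_one]
  rw [prod_comm] at key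
  obtain ⟨m, hm⟩ : ∃ m, p = m + 1 := ⟨p - 1, by have := (Fact.out : p.Prime).one_lt; omega⟩
  rw [show range p = range (m + 1) by rw [hm], prod_range_succ' _ m] at key
  have hz : ∀ i ∈ range m, ∏ j ∈ range n, ρ (d (i + 1) ^ j) (ρ (s ^ (i + 1)) v₀) = 1 := by
    intro i hi
    refine prod_pow_act_eq_one ρ (hdpow _) (hfree _ (hd1 _ (Nat.succ_ne_zero i) ?_) ?_) _
    · rw [hm]
      exact Nat.succ_lt_succ (mem_range.1 hi)
    · exact fun h => hg (h.trans (orderOf_dvd_of_pow_eq_one (hdpow _)))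
  rw [prod_eq_one hz, one_mul] at key
  have hd0 : d 0 = 1 := by simp [hd]
  simp only [hd0, one_pow, pow_zero, map_one, MulAut.one_apply, prod_const, card_range] at key
  obtain ⟨e, he⟩ := hV v₀
  apply hv₀
  refine orderOf_eq_one_iff.1 (Nat.dvd_one.1 ?_)
  have hco : Nat.Coprime (p ^ e) n :=
    Nat.Coprime.pow_left _ ((Fact.out : p.Prime).coprime_iff_not_dvd.2 hg)
  rw [← Nat.coprime_iff_gcd_eq_one.1 hco]
  exact Nat.dvd_gcd (orderOf_dvd_of_pow_eq_one he) (orderOf_dvd_of_pow_eq_one key)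

/-- `p`-elements centralise the subgroups of prime power order prime to `p` they normalise. -/
def CentralizesInvariant (p : ℕ) (A : Type u) [Group A] : Prop :=
  ∀ (q : ℕ), q.Prime → q ≠ p → ∀ R : Subgroup A, IsPGroup q R →
    ∀ s : A, (∃ k, orderOf s = p ^ k) → s ∈ Subgroup.normalizer (R : Set A) →
      s ∈ Subgroup.centralizer (R : Set A)

/-- A free action with vanishing norms gives `CentralizesInvariant` in odd order. -/
theorem centralizesInvariant_of_free (ρ : A →* MulAut V) (hV : IsPGroup p V) {v₀ : V}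
    (hv₀ : v₀ ≠ 1) (hodd : Odd (Nat.card A))
    (hfree : ∀ a : A, a ≠ 1 → ¬ p ∣ orderOf a → ∀ w : V, ρ a w = w → w = 1)
    (hnorm : ∀ s : A, (∃ k, orderOf s = p ^ k) →
      s ^ p = 1 ∧ ∀ v : V, ∏ i ∈ range p, ρ (s ^ i) v = 1) :
    CentralizesInvariant p A := by
  intro q hq hqp R hR s hs hsN
  haveI := Fact.mk hq
  obtain ⟨k, hk⟩ := IsPGroup.iff_card.1 hR
  by_cases hk0 : k = 0
  · rw [hk0, pow_zero, Subgroup.card_eq_one] at hk
    rw [hk]
    exact Subgroup.mem_centralizer_iff.2 fun h hh => by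
      rw [Subgroup.mem_bot.1 hh, one_mul, mul_one]
  have hq2 : q ≠ 2 := fun h => by
    subst h
    have : 2 ∣ Nat.card A := (dvd_pow_self 2 hk0).trans (hk ▸ Subgroup.card_subgroup_dvd_card R)
    exact (Nat.not_even_iff_odd.2 hodd) (even_iff_two_dvd.2 this)
  haveI := isCyclic_of_free ρ hV hv₀ hfree hqp hq2 R hR
  obtain ⟨g, hg⟩ := IsCyclic.exists_generator (α := R)
  have hgo : ¬ p ∣ orderOf (g : A) := by
    intro h
    rw [Subgroup.orderOf_coe] at h
    have h1 := (h.trans (orderOf_dvd_natCard g))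
    rw [hk] at h1
    exact hqp ((Nat.prime_dvd_prime_iff_eq Fact.out hq).1
      ((Fact.out : p.Prime).dvd_of_dvd_pow h1)).symm
  have hsg : s * (g : A) * s⁻¹ ∈ Subgroup.zpowers (g : A) := by
    obtain ⟨m, hm⟩ := hg ⟨_, (Subgroup.mem_normalizer_iff.1 hsN g).1 g.2⟩
    exact ⟨m, by simpa using congrArg Subtype.val hm⟩
  have hc := commute_of_norm ρ hV hv₀ hfree (hnorm s hs).1 (hnorm s hs).2 hgo hsg
  refine Subgroup.mem_centralizer_iff.2 fun h hh => ?_
  obtain ⟨m, hm⟩ := hg ⟨h, hh⟩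
  have : (g : A) ^ m = h := by simpa using congrArg Subtype.val hm
  rw [← this]
  exact ((hc.zpow_right m).eq).symm

/-- The property passes to quotients. -/
theorem CentralizesInvariant.quotient (hA : CentralizesInvariant p A) (N : Subgroup A) [N.Normal] :
    CentralizesInvariant p (A ⧸ N) := by
  intro q hq hqp R hR s hs hsN
  haveI := Fact.mk hq
  set π := QuotientGroup.mk' N
  set K := R.comap π with hK
  let S : Sylow q K := default
  set S' := (S : Subgroup K).map K.subtype with hS'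
  -- the image of `S` is `R`
  have hmap : S'.map π = R := by
    have hsurj : Function.Surjective (π.subgroupComap R) :=
      π.subgroupComap_surjective_of_surjective R (QuotientGroup.mk'_surjective N)
    have h1 : (S : Subgroup K).map (π.subgroupComap R) = ⊤ := by
      let T : Sylow q R := S.mapSurjective hsurj
      show (T : Subgroup R) = ⊤
      refine (T.3 (Q := ⊤) (hR.of_equiv Subgroup.topEquiv.symm) le_top).symm
    apply le_antisymm
    · rintro _ ⟨x, ⟨y, -, rfl⟩, rfl⟩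
      exact y.2
    · intro r hr
      obtain ⟨y, hy, hyr⟩ := (h1.symm ▸ Subgroup.mem_top (⟨r, hr⟩ : R))
      exact ⟨(y : A), ⟨y, hy, rfl⟩, congrArg Subtype.val hyr⟩
  obtain ⟨σ, rfl⟩ := QuotientGroup.mk'_surjective N s
  have hσK : σ ∈ Subgroup.normalizer (K : Set A) := by
    refine Subgroup.mem_normalizer_iff.2 fun x => ?_
    show π x ∈ R ↔ π (σ * x * σ⁻¹) ∈ R
    rw [map_mul, map_mul, map_inv]
    exact Subgroup.mem_normalizer_iff.1 hsN _
  -- Frattini argument
  obtain ⟨k, hkK, hkσ⟩ : ∃ k ∈ K, k⁻¹ * σ ∈ Subgroup.normalizer (S' : Set A) := by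
    obtain ⟨y, hy⟩ := MulAction.exists_smul_eq K S
      ((Subgroup.normalizerMonoidHom K ⟨σ, hσK⟩ : MulAut K) • S)
    have hy' : MulAut.conj y • (S : Subgroup K) =
        (Subgroup.normalizerMonoidHom K ⟨σ, hσK⟩ : MulAut K) • (S : Subgroup K) :=
      congrArg Sylow.toSubgroup hy
    refine ⟨(y : A), y.2, Subgroup.mem_normalizer_fintype fun x hx => ?_⟩
    obtain ⟨z, hz, rfl⟩ := hx
    have h1 : (Subgroup.normalizerMonoidHom K ⟨σ, hσK⟩ : MulAut K) • z ∈
        (Subgroup.normalizerMonoidHom K ⟨σ, hσK⟩ : MulAut K) • (S : Subgroup K) :=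
      Subgroup.smul_mem_pointwise_smul _ _ _ hz
    rw [← hy', Subgroup.mem_pointwise_smul_iff_inv_smul_mem] at h1
    refine ⟨_, h1, ?_⟩
    simp [mul_assoc, Subgroup.normalizerMonoidHom]
    rw [show ((⟨σ, hσK⟩ : Subgroup.normalizer (K : Set A)) • z : K).1 = σ * z * σ⁻¹ from rfl]
    group
  set n := k⁻¹ * σ with hn
  -- the image of `k` lies in `R`, and `n` maps onto an element normalising `R`
  obtain ⟨t, ht, htk⟩ : ∃ t ∈ S', π t = π k := by
    have hkR : π k ∈ R := hkK
    rw [← hmap] at hkR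
    exact hkR
  have hn2 : t * n ∈ Subgroup.normalizer (S' : Set A) :=
    mul_mem (Subgroup.le_normalizer ht) hkσ
  have hn2π : π (t * n) = π σ := by
    rw [map_mul, hn, map_mul, map_inv, htk, mul_inv_cancel_left]
  -- take the `p`-part
  obtain ⟨e, he⟩ := hs
  obtain ⟨c, hc⟩ : ∃ c : ℕ, (π σ) ^ (ordCompl[p] (orderOf (t * n)) * c) = π σ := by
    obtain ⟨c, hc⟩ := exists_pow_eq_self_of_coprime (x := π σ)
      (n := ordCompl[p] (orderOf (t * n)))
      (by rw [he]; exact ((Nat.coprime_ordCompl Fact.out (orderOf_pos _).ne').symm).pow_right e)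
    exact ⟨c, by rw [pow_mul, hc]⟩
  set σ' := (t * n) ^ (ordCompl[p] (orderOf (t * n)) * c) with hσ'
  have hσ'o : ∃ j, orderOf σ' = p ^ j := by
    have h1 : σ' ^ p ^ (orderOf (t * n)).factorization p = 1 := by
      rw [hσ', ← pow_mul, mul_right_comm, mul_comm (ordCompl[p] _),
        Nat.ordProj_mul_ordCompl_eq_self, pow_mul, pow_orderOf_eq_one, one_pow]
    obtain ⟨j, -, hj⟩ := (Nat.dvd_prime_pow Fact.out).1 (orderOf_dvd_of_pow_eq_one h1)
    exact ⟨j, hj⟩
  have hcent := hA q hq hqp S' ((S.isPGroup').map _) σ' hσ'o (pow_mem hn2 _)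
  have hπ : π σ' = π σ := by rw [hσ', map_pow, hn2π, hc]
  refine Subgroup.mem_centralizer_iff.2 fun r hr => ?_
  rw [← hmap] at hr
  obtain ⟨x, hx, rfl⟩ := hr
  show π x * π σ = π σ * π x
  rw [← hπ, ← map_mul, ← map_mul, Subgroup.mem_centralizer_iff.1 hcent x hx]

/-- A solvable group with the property has a normal Sylow `p`-subgroup. -/
theorem CentralizesInvariant.sylow_normal : ∀ (n : ℕ) (A : Type u) [Group A] [Finite A],
    Nat.card A = n → Group.IsSolvable A → CentralizesInvariant p A → ∀ P : Sylow p A,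
      (P : Subgroup A).Normal := by
  intro n
  induction n using Nat.strong_induction_on with
  | _ n ih =>
  intro A _ _ hcard hsol hA P
  rcases subsingleton_or_nontrivial A with hA1 | hA1
  · exact ⟨fun x hx g => by rwa [Subsingleton.elim (g * x * g⁻¹) x]⟩
  obtain ⟨M, hMn, hM1, hMmin⟩ := Solvable.exists_minimal_normal (G := A)
  obtain ⟨r, hr, hMr⟩ := Solvable.exists_isPGroup_of_minimal_normal hM1 hMmin
  have hlt : Nat.card (A ⧸ M) < n := by
    rw [← hcard, ← Subgroup.index_eq_card, ← M.card_mul_index]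
    exact lt_mul_of_one_lt_left (Nat.pos_of_ne_zero Subgroup.index_ne_zero_of_finite)
      (M.one_lt_card_iff_ne_bot.2 hM1)
  have hPn := ih _ hlt (A ⧸ M) rfl inferInstance (hA.quotient M)
    (P.mapSurjective (QuotientGroup.mk'_surjective M))
  have hsup : ((P : Subgroup A) ⊔ M).Normal := by
    have h1 : (P : Subgroup A) ⊔ M =
        ((P : Subgroup A).map (QuotientGroup.mk' M)).comap (QuotientGroup.mk' M) := by
      rw [Subgroup.comap_map_eq, QuotientGroup.ker_mk']
    rw [h1]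
    exact hPn.comap _
  by_cases hrp : r = p
  · subst hrp
    have hMP : M ≤ (P : Subgroup A) := hMr.le_sylow_of_normal P
    rwa [sup_eq_left.2 hMP] at hsup
  have hcomm : ∀ x ∈ (P : Subgroup A), ∀ m ∈ M, m * x = x * m := by
    intro x hx m hm
    obtain ⟨e, he⟩ := P.isPGroup' ⟨x, hx⟩
    have hxo : ∃ k, orderOf x = p ^ k := by
      obtain ⟨k, -, hk⟩ := (Nat.dvd_prime_pow Fact.out).1
        (orderOf_dvd_of_pow_eq_one (congrArg Subtype.val he : x ^ p ^ e = 1))
      exact ⟨k, hk⟩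
    exact Subgroup.mem_centralizer_iff.1 (hA r hr hrp M hMr x hxo
      (Subgroup.normalizer_eq_top M ▸ Subgroup.mem_top x)) m hm
  refine ⟨fun x hx g => ?_⟩
  have h1 := hsup.conj_mem x (Subgroup.mem_sup_left hx) g
  obtain ⟨u, hu, m, hm, hum⟩ := Subgroup.mem_sup_of_normal_right.1 h1
  obtain ⟨e, he⟩ := P.isPGroup' ⟨u, hu⟩
  obtain ⟨e', he'⟩ := P.isPGroup' ⟨x, hx⟩
  haveI := Fact.mk hr
  obtain ⟨f, hf⟩ := hMr ⟨m, hm⟩
  have hm1 : m = 1 := by
    have h2 : (u * m) ^ p ^ (e + e') = 1 := by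
      rw [hum, conj_pow, pow_add, mul_comm (p ^ e), pow_mul,
        show x ^ p ^ e' = 1 from congrArg Subtype.val he', one_pow, mul_one, mul_inv_cancel]
    rw [((show Commute m u from hcomm u hu m hm).symm).mul_pow, pow_add, pow_mul,
      show u ^ p ^ e = 1 from congrArg Subtype.val he, one_pow, one_mul, ← pow_add] at h2
    refine orderOf_eq_one_iff.1 (Nat.dvd_one.1 ?_)
    rw [← Nat.coprime_iff_gcd_eq_one.1 (((Nat.coprime_primes Fact.out hr).2 (Ne.symm hrp)).pow
      (e + e') f)]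
    exact Nat.dvd_gcd (orderOf_dvd_of_pow_eq_one h2)
      (orderOf_dvd_of_pow_eq_one (congrArg Subtype.val hf : m ^ r ^ f = 1))
  rw [← hum, hm1, mul_one]
  exact hu

end CfsgLib.OneClassP
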