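import Cfsg.Agent.OneClassP.Fusion
import Cfsg.Agent.InertialQuotient.KleinFour
import Cfsg.Agent.BlocksLocal.PrincipalSection
import Cfsg.Agent.PLocal.PSolvable
import Cfsg.Prelude.Def_Transfer

/-!
# Blocks with one character more than their `p`-regular rank

There is exactly one class of nontrivial `p`-elements meeting the defect group, and it carries one
subsection of rank one.  For the principal block the centralisers are then `p`-nilpotent.
-/

set_option autoImplicit false
set_option linter.unusedSectionVars false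
set_option linter.style.haveILetI false

namespace CfsgLib.OneClassP

open Cfsg
open CfsgLib.BlockPairs

universe u

variable {G : Type u} [Group G] [Fintype G] {M : Ideal AlgInt} [M.IsPrime] {p : ℕ} [hp : Fact p.Prime]

open Classical in
/-- The elements of the defect group other than `1` are conjugate, of order `p`, and the blocks
inducing `B` at any of them have total rank one. -/
theorem subsection_data [CharP (CfsgLib.Blocks.Res M) p] [IsAlgClosed (CfsgLib.Blocks.Res M)]
    (hM : Cfsg.IsPModular p M) {B : Set (IrrCharacter G)} (hB : Cfsg.IsPBlock M B)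
    {D : Subgroup G} (hD : Cfsg.IsDefectGroup p M B D)
    (hk : Nat.card B = Cfsg.blockRank p B + 1) :
    IsPGroup p D ∧ (∀ y ∈ D, ∀ z ∈ D, y ≠ 1 → z ≠ 1 → IsConj y z) ∧
      ∀ x ∈ D, x ≠ 1 → ∑ᶠ b ∈ {b : Set (IrrCharacter ↥(Subgroup.centralizer ({x} : Set G))) |
          Cfsg.IsInducedBlock M (Subgroup.centralizer ({x} : Set G)) b B},
          Cfsg.blockRank p b = 1 := by
  have hb := isBlock_gblk (M := M) hB
  have hd := (isDefectGroup_gblk_iff hB D).1 hD
  obtain ⟨e, he⟩ := exists_blockHas hb le_top hd.2.1 hd.2.2.1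
  have hmax := isMaxPair_of_defect hd he
  set S : G → ℕ := fun x => ∑ᶠ b ∈ {b : Set (IrrCharacter ↥(Subgroup.centralizer ({x} : Set G))) |
      Cfsg.IsInducedBlock M (Subgroup.centralizer ({x} : Set G)) b B}, Cfsg.blockRank p b with hS
  have hone : ∀ x : G, x ∈ D → 1 ≤ S x := by
    intro x hx
    haveI := Fintype.ofFinite (Subgroup.centralizer ({x} : Set G))
    obtain ⟨b, hb', -⟩ := InertialQuotient.exists_subsection_below hM hB hmax hx
    simp only [hS]
    rw [finsum_mem_eq_toFinset_sum]
    exact le_trans (BlockPairing.one_le_blockRank (p := p)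
      (CfsgLib.Blocks.isPBlock_nonempty hb'.1))
      (Finset.single_le_sum (fun _ _ => Nat.zero_le _) (Set.mem_toFinset.2 hb'))
  refine ⟨hd.2.1, ?_⟩
  have key : ∀ y ∈ D, ∀ z ∈ D, y ≠ 1 → z ≠ 1 → IsConj y z ∧ S y = 1 := by
    intro y hy z hz hy1 hz1
    -- representatives of the classes of `p`-elements containing `1` and `y`
    let rep : ConjClasses G → G := fun C => if C = ConjClasses.mk 1 then 1
      else if C = ConjClasses.mk y then y else Quotient.out C
    have hC : ∀ C, ConjClasses.mk (rep C) = C := fun C => by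
      simp only [rep]
      split_ifs with h h'
      · exact h.symm
      · exact h'.symm
      · exact Quotient.out_eq C
    have hinv : ∀ {a c : G}, IsConj a c → orderOf a = orderOf c := fun h => by
      obtain ⟨g, rfl⟩ := isConj_iff.1 h
      exact (MulEquiv.orderOf_eq (MulAut.conj g) _).symm
    haveI := Fintype.ofFinite (ConjClasses G)
    set X := (Finset.univ.image rep).filter fun x => ∃ k : ℕ, orderOf x = p ^ k with hXdef
    have hrep : ∀ g : G, (∃ k : ℕ, orderOf g = p ^ k) → ∃! x, x ∈ X ∧ IsConj g x := fun g hg => by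
      have hgc : IsConj g (rep (ConjClasses.mk g)) :=
        ConjClasses.mk_eq_mk_iff_isConj.1 (hC _).symm
      refine ⟨rep (ConjClasses.mk g), ⟨Finset.mem_filter.2 ⟨Finset.mem_image_of_mem _
        (Finset.mem_univ _), by rwa [← hinv hgc]⟩, hgc⟩, fun x hx => ?_⟩
      obtain ⟨C, -, rfl⟩ := Finset.mem_image.1 (Finset.mem_filter.1 hx.1).1
      rw [ConjClasses.mk_eq_mk_iff_isConj.2 hx.2, hC]
    have h1X : (1 : G) ∈ X := Finset.mem_filter.2
      ⟨Finset.mem_image.2 ⟨ConjClasses.mk 1, Finset.mem_univ _, by simp [rep]⟩, 0, by simp⟩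
    have hyX : y ∈ X.erase 1 := by
      refine Finset.mem_erase.2 ⟨hy1, Finset.mem_filter.2 ⟨Finset.mem_image.2
        ⟨ConjClasses.mk y, Finset.mem_univ _, ?_⟩, exists_prime_power hd.2.1 hy⟩⟩
      simp only [rep]
      rw [if_neg]
      · simp
      exact fun h => hy1 (isConj_one_left.1 (ConjClasses.mk_eq_mk_iff_isConj.1 h))
    have hX : ∀ x ∈ X, ∃ k : ℕ, orderOf x = p ^ k := fun x hx => (Finset.mem_filter.1 hx).2
    have hcount := BlockPairing.card_block_eq_sum hM hB X hX hrep
    rw [← Finset.add_sum_erase X _ h1X, InertialQuotient.sum_blockRank_one hM hB] at hcount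
    have hsum : ∑ x ∈ X.erase 1, S x = 1 := by
      simp only [hS]
      omega
    have hSy : S y = 1 := le_antisymm
      (hsum ▸ Finset.single_le_sum (fun x _ => Nat.zero_le (S x)) hyX) (hone y hy)
    refine ⟨?_, hSy⟩
    obtain ⟨x, ⟨hxX, hzx⟩, -⟩ := hrep z (exists_prime_power hd.2.1 hz)
    have hx1 : x ≠ 1 := fun h => hz1 (isConj_one_left.1 (h ▸ hzx))
    by_contra hne
    have hxy : x ≠ y := fun h => hne (h ▸ hzx).symm
    have hSx : 1 ≤ S x := by
      -- the subsection at a conjugate of `z`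
      obtain ⟨g, hg⟩ := isConj_iff.1 hzx
      have hzd : z ∈ D := hz
      have hd' : IsDefectGrp p (⊤ : Subgroup G) (gblk M B) (cj g D) := hd.cj hb.fixed trivial
      obtain ⟨e', he'⟩ := exists_blockHas hb le_top hd'.2.1 hd'.2.2.1
      have hxD : x ∈ cj g D := ⟨z, hzd, hg⟩
      haveI := Fintype.ofFinite (Subgroup.centralizer ({x} : Set G))
      obtain ⟨b, hb', -⟩ :=
        InertialQuotient.exists_subsection_below hM hB (isMaxPair_of_defect hd' he') hxD
      simp only [hS]
      rw [finsum_mem_eq_toFinset_sum]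
      exact le_trans (BlockPairing.one_le_blockRank (p := p)
        (CfsgLib.Blocks.isPBlock_nonempty hb'.1))
        (Finset.single_le_sum (fun _ _ => Nat.zero_le _) (Set.mem_toFinset.2 hb'))
    have := Finset.sum_le_sum_of_subset (f := S)
      (show ({x, y} : Finset G) ⊆ X.erase 1 by
        intro w hw
        rcases Finset.mem_insert.1 hw with rfl | hw
        · exact Finset.mem_erase.2 ⟨hx1, hxX⟩
        · rw [Finset.mem_singleton.1 hw]; exact hyX)
    rw [Finset.sum_pair hxy, hsum] at this
    omega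
  exact ⟨fun y hy z hz hy1 hz1 => (key y hy z hz hy1 hz1).1,
    fun x hx hx1 => (key x hx x hx hx1 hx1).2⟩

/-- A group whose principal block has rank one has a normal `p`-complement: the elements of order
prime to `p` lie in the kernel of the block. -/
theorem mem_setKer_of_rank_one (hl : Cfsg.blockRank p (Cfsg.principalBlock M G) = 1) {y : G}
    (hy : ¬ p ∣ orderOf y) : y ∈ CfsgLib.PrincipalBlock.setKer (Cfsg.principalBlock M G) := by
  set f := fun φ : IrrCharacter G => Cfsg.pRegularPart p (φ : G → ℂ) with hf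
  rw [CfsgLib.PrincipalBlock.setKer, Subgroup.mem_iInf]
  intro χ
  rw [Subgroup.mem_iInf]
  intro hχ
  rw [CfsgLib.PrincipalBlock.mem_charKer]
  set τ := CfsgLib.PrincipalBlock.trivChar G
  have hτv : ∀ g : G, ¬ p ∣ orderOf g → f τ g = 1 := fun g hg => by
    simp [hf, τ, Cfsg.pRegularPart, Cfsg.IsPRegular, hg, CfsgLib.PrincipalBlock.trivChar]
  have h1 : ¬ p ∣ orderOf (1 : G) := by simp [hp.out.ne_one]
  have hne : f τ ≠ 0 := fun h => by
    have := hτv 1 h1
    rw [h] at this
    simp at this
  have hτB : τ ∈ Cfsg.principalBlock M G := CfsgLib.PrincipalBlock.trivChar_mem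
  have heq : Submodule.span ℂ {f τ} = Submodule.span ℂ (f '' Cfsg.principalBlock M G) := by
    refine Submodule.eq_of_le_of_finrank_eq
      ((Submodule.span_singleton_le_iff_mem _ _).2 (Submodule.subset_span ⟨τ, hτB, rfl⟩)) ?_
    rw [finrank_span_singleton hne]
    exact hl.symm
  obtain ⟨c, hc⟩ := Submodule.mem_span_singleton.1
    (heq ▸ Submodule.subset_span ⟨χ, hχ, rfl⟩ : f χ ∈ Submodule.span ℂ {f τ})
  have hval : ∀ g : G, ¬ p ∣ orderOf g → (χ : G → ℂ) g = c := fun g hg => by
    have h2 := congrFun hc g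
    rw [Pi.smul_apply, hτv g hg, smul_eq_mul, mul_one] at h2
    rw [h2]
    simp [hf, Cfsg.pRegularPart, Cfsg.IsPRegular, hg]
  rw [hval y hy, hval 1 h1]

/-- The defect group of the principal block is a Sylow subgroup. -/
theorem exists_sylow_eq (hM : Cfsg.IsPModular p M) {D : Subgroup G} (hDp : IsPGroup p D)
    (hD : Cfsg.IsDefectGroup p M (Cfsg.principalBlock M G) D) :
    ∃ P : Sylow p G, (P : Subgroup G) = D := by
  have hc := CfsgLib.Blocks.card_defectGroup hM CfsgLib.PrincipalBlock.isPBlock_principalBlock hD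
  have h2 := CfsgLib.BlockPairing.factorization_sub_le_blockDefect (p := p)
    (CfsgLib.PrincipalBlock.trivChar_mem :
      CfsgLib.PrincipalBlock.trivChar G ∈ Cfsg.principalBlock M G)
  have h4 : Cfsg.blockDefect p (Cfsg.principalBlock M G) ≤ (Nat.card G).factorization p :=
    Nat.sub_le _ _
  have hdeg : Cfsg.charDegree ((CfsgLib.PrincipalBlock.trivChar G : IrrCharacter G) : G → ℂ) = 1 := by
    simp [Cfsg.charDegree, CfsgLib.PrincipalBlock.trivChar]
  rw [hdeg, Nat.factorization_one, Finsupp.zero_apply, Nat.sub_zero] at h2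
  exact ⟨Sylow.ofCard D (by rw [hc, le_antisymm h4 h2]), rfl⟩

/-- The principal block case: a Sylow subgroup is abelian. -/
theorem comm_of_principal [CharP (CfsgLib.Blocks.Res M) p] [IsAlgClosed (CfsgLib.Blocks.Res M)]
    (hM : Cfsg.IsPModular p M) (hp2 : p ≠ 2) {D : Subgroup G}
    (hD : Cfsg.IsDefectGroup p M (Cfsg.principalBlock M G) D)
    (hk : Nat.card (Cfsg.principalBlock M G) =
      Cfsg.blockRank p (Cfsg.principalBlock M G) + 1) :
    ∀ a ∈ D, ∀ b ∈ D, a * b = b * a := by
  obtain ⟨hDp, hconj, hrank⟩ :=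
    subsection_data hM CfsgLib.PrincipalBlock.isPBlock_principalBlock hD hk
  obtain ⟨P, rfl⟩ := exists_sylow_eq hM hDp hD
  by_cases hP : (P : Subgroup G) = ⊥
  · intro a ha b hb
    rw [hP, Subgroup.mem_bot] at ha hb
    rw [ha, hb]
  haveI : Nontrivial (P : Subgroup G) := (Subgroup.bot_or_nontrivial _).resolve_left hP
  obtain ⟨q, hq⟩ := exists_prime_orderOf_dvd_card' p (by
    obtain ⟨k, hk⟩ := IsPGroup.iff_card.1 hDp
    rw [hk]
    refine dvd_pow_self p fun h0 => hP (Subgroup.card_eq_one.1 ?_)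
    rw [hk, h0, pow_zero])
  have hto : ∀ y : G, (∃ k, orderOf y = p ^ k) → y ≠ 1 →
      ∃ g : G, g * y * g⁻¹ ∈ (P : Subgroup G) := by
    intro y hy _
    obtain ⟨k, hk⟩ := hy
    obtain ⟨Q, hQ⟩ := (IsPGroup.of_card (n := k)
      (by rw [Nat.card_zpowers, hk]) : IsPGroup p (Subgroup.zpowers y)).exists_le_sylow
    obtain ⟨g, rfl⟩ := MulAction.exists_smul_eq G P Q
    exact ⟨g⁻¹, by simpa using CfsgLib.Transfer.mem_smul_iff.1 (hQ (Subgroup.mem_zpowers y))⟩
  have hh : Hyp p G := by
    refine ⟨hp2, fun y hy => ?_, fun y hy hy1 => ?_⟩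
    · by_cases hy1 : y = 1
      · rw [hy1, one_pow]
      obtain ⟨g, hg⟩ := hto y hy hy1
      have hq1 : ((q : (P : Subgroup G)) : G) ≠ 1 := fun h => by
        rw [OneMemClass.coe_eq_one.1 h, orderOf_one] at hq
        exact hp.out.ne_one hq.symm
      obtain ⟨c, hc⟩ := isConj_iff.1 (hconj _ q.2 _ hg hq1 fun h => hy1 (conj_eq_one_iff.1 h))
      have h1 : (g * y * g⁻¹) ^ p = 1 := by
        have hqp : ((q : (P : Subgroup G)) : G) ^ p = 1 :=
          orderOf_dvd_iff_pow_eq_one.1 (by rw [Subgroup.orderOf_coe, hq])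
        rw [← hc, conj_pow, hqp, mul_one, mul_inv_cancel]
      rwa [conj_pow, conj_eq_one_iff] at h1
    · obtain ⟨g, hg⟩ := hto y hy hy1
      set x := g * y * g⁻¹ with hx
      have hx1 : x ≠ 1 := fun h => hy1 (conj_eq_one_iff.1 h)
      haveI := Fintype.ofFinite (Subgroup.centralizer ({x} : Set G))
      have hxk : ∃ k, orderOf x = p ^ k := exists_prime_power hDp hg
      have hl : Cfsg.blockRank p (Cfsg.principalBlock M (Subgroup.centralizer ({x} : Set G))) = 1 := by
        have hset : {b : Set (IrrCharacter ↥(Subgroup.centralizer ({x} : Set G))) |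
            Cfsg.IsInducedBlock M (Subgroup.centralizer ({x} : Set G)) b
              (Cfsg.principalBlock M G)} =
            {Cfsg.principalBlock M (Subgroup.centralizer ({x} : Set G))} := by
          ext b
          rw [Set.mem_ofPred_eq, Set.mem_singleton_iff]
          refine ⟨fun hb => (CfsgLib.BlocksLocal.isInducedBlock_principal_iff hM
            ⟨_, hb⟩).1 hb, fun hb => ?_⟩
          subst hb
          obtain ⟨ξ, hξ⟩ := CfsgLib.Blocks.isPBlock_nonempty
            (CfsgLib.PrincipalBlock.isPBlock_principalBlock (M := M)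
              (G := Subgroup.centralizer ({x} : Set G)))
          rw [CfsgLib.Blocks.eq_blockOf_of_mem CfsgLib.PrincipalBlock.isPBlock_principalBlock hξ]
          refine CfsgLib.Blocks.isInducedBlock_of_mem_overSet hM hxk
            CfsgLib.PrincipalBlock.isPBlock_principalBlock ?_
          rw [CfsgLib.BlocksLocal.overSet_principal hM hxk]
          exact hξ
        have := hrank x hg hx1
        rwa [hset, finsum_mem_singleton] at this
      set K := CfsgLib.PrincipalBlock.setKer
        (Cfsg.principalBlock M (Subgroup.centralizer ({x} : Set G))) with hK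
      refine ⟨(K.map (Subgroup.centralizer ({x} : Set G)).subtype).map
        (MulAut.conj g⁻¹).toMonoidHom, ?_, ?_, ?_⟩
      · intro c hc
        have hgc : g * c * g⁻¹ ∈ Subgroup.centralizer ({x} : Set G) :=
          Subgroup.mem_centralizer_singleton_iff.2 (by
            have := Subgroup.mem_centralizer_singleton_iff.1 hc
            rw [hx]
            calc g * c * g⁻¹ * (g * y * g⁻¹) = g * (c * y) * g⁻¹ := by group
              _ = g * (y * c) * g⁻¹ := by rw [this]
              _ = _ := by group)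
        refine Subgroup.mem_normalizer_fintype ?_
        rintro _ ⟨_, ⟨k, hk, rfl⟩, rfl⟩
        refine ⟨_, ⟨⟨_, hgc⟩ * k * ⟨_, hgc⟩⁻¹,
          (inferInstance : K.Normal).conj_mem k hk _, rfl⟩, ?_⟩
        simp [mul_assoc]
      · rw [Subgroup.card_map_of_injective (MulAut.conj g⁻¹).injective,
          Subgroup.card_map_of_injective (Subgroup.subtype_injective _)]
        exact CfsgLib.PrincipalBlock.not_dvd_card_setKer hM
      · intro c hc hcp
        have hgc : g * c * g⁻¹ ∈ Subgroup.centralizer ({x} : Set G) :=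
          Subgroup.mem_centralizer_singleton_iff.2 (by
            have := Subgroup.mem_centralizer_singleton_iff.1 hc
            rw [hx]
            calc g * c * g⁻¹ * (g * y * g⁻¹) = g * (c * y) * g⁻¹ := by group
              _ = g * (y * c) * g⁻¹ := by rw [this]
              _ = _ := by group)
        refine ⟨g * c * g⁻¹, ⟨⟨_, hgc⟩, ?_, rfl⟩, by simp [mul_assoc]⟩
        refine mem_setKer_of_rank_one hl ?_
        rw [← Subgroup.orderOf_coe]
        show ¬ p ∣ orderOf (g * c * g⁻¹)
        rwa [show g * c * g⁻¹ = MulAut.conj g c from rfl, MulEquiv.orderOf_eq]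
  exact hh.sylow_comm P fun a b ha hb ha1 hb1 => hconj a ha b hb ha1 hb1

/-- A minimal normal subgroup of a `p`-soluble group of order divisible by `p` is a `p`-group. -/
theorem isPGroup_of_minimal {H : Type u} [Group H] [Finite H] (hH : Cfsg.IsPSolvable p H)
    {M : Subgroup H} [hMn : M.Normal] (hpM : p ∣ Nat.card M)
    (hmin : ∀ K : Subgroup H, K.Normal → K ≤ M → K = ⊥ ∨ K = M) : IsPGroup p M := by
  obtain ⟨n, C, h0, hlast, hmono, hnorm, hfac⟩ := hH
  have hM1 : M ≠ ⊥ := fun h => by
    rw [h, Subgroup.card_bot] at hpM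
    exact hp.out.ne_one (Nat.dvd_one.1 hpM)
  obtain ⟨i, hi, hi'⟩ : ∃ i : Fin n, M ≤ C i.succ ∧ ¬ M ≤ C i.castSucc := by
    by_contra hcon
    push Not at hcon
    have : ∀ k : Fin (n + 1), M ≤ C (Fin.last n) → M ≤ C k := by
      intro k
      induction k using Fin.reverseInduction with
      | last => exact id
      | cast j ih => exact fun h => hcon j (ih h)
    exact hM1 (le_bot_iff.1 (h0 ▸ this 0 (hlast ▸ le_top)))
  have hbot : C i.castSucc ⊓ M = ⊥ :=
    (hmin _ (@Subgroup.normal_inf_normal _ _ _ _ (hnorm _) hMn) inf_le_right).resolve_right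
      fun h => hi' (inf_eq_right.1 h)
  haveI := hnorm i.castSucc
  have hdvd : Nat.card M ∣ (C i.castSucc).relIndex (C i.succ) := by
    have h1 : (C i.castSucc).relIndex M = Nat.card M := by
      rw [← Subgroup.inf_relIndex_right, hbot, Subgroup.relIndex_bot_left]
    exact h1 ▸ CfsgLib.PLocal.relIndex_dvd_of_le_right_of_normal _ hi
  rcases hfac i with ⟨m, hm⟩ | hcop
  · obtain ⟨j, -, hj⟩ := (Nat.dvd_prime_pow hp.out).1 (hm ▸ hdvd)
    exact IsPGroup.of_card hj
  · exact absurd (hp.out.coprime_iff_not_dvd.1 (hcop.coprime_dvd_left hdvd).symm)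
      (not_not.2 hpM)

/-- In a `p`-soluble group, a `p`-subgroup whose nontrivial elements are all conjugate is abelian. -/
theorem comm_of_pSolvable {H : Type u} [Group H] [Finite H] (hH : Cfsg.IsPSolvable p H)
    {D : Subgroup H} (hD : IsPGroup p D) (hconj : ∀ y ∈ D, ∀ z ∈ D, y ≠ 1 → z ≠ 1 → IsConj y z) :
    ∀ a ∈ D, ∀ b ∈ D, a * b = b * a := by
  intro a ha b hb
  by_cases ha1 : a = 1
  · rw [ha1, one_mul, mul_one]
  set N := Subgroup.normalClosure ({a} : Set H)
  have haN : a ∈ N := Subgroup.subset_normalClosure (Set.mem_singleton a)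
  have hmem : ∀ (K : Subgroup H), K.Normal → ∀ y ∈ D, y ≠ 1 → (y ∈ K ↔ a ∈ K) := by
    intro K hK y hy hy1
    obtain ⟨g, rfl⟩ := isConj_iff.1 (hconj a ha y hy ha1 hy1)
    exact ⟨fun h => by simpa [mul_assoc] using hK.conj_mem _ h g⁻¹, fun h => hK.conj_mem _ h g⟩
  have hDN : D ≤ N := fun y hy => by
    by_cases hy1 : y = 1
    · rw [hy1]; exact one_mem _
    · exact (hmem N inferInstance y hy hy1).2 haN
  obtain ⟨K, ⟨hKn, hKN, haK⟩, hmax⟩ := WellFounded.has_min
    (wellFounded_gt : WellFounded ((· > ·) : Subgroup H → Subgroup H → Prop))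
    {K : Subgroup H | K.Normal ∧ K ≤ N ∧ a ∉ K}
    ⟨⊥, inferInstance, bot_le, fun h => ha1 (Subgroup.mem_bot.1 h)⟩
  set π := QuotientGroup.mk' K
  set M := N.map π with hM
  haveI : M.Normal := Subgroup.Normal.map inferInstance π (QuotientGroup.mk'_surjective K)
  have hπa : π a ≠ 1 := fun h => haK ((QuotientGroup.eq_one_iff a).1 h)
  have hM1 : M ≠ ⊥ := fun h => hπa (Subgroup.mem_bot.1 (h ▸ Subgroup.mem_map_of_mem π haN))
  have hmin : ∀ L : Subgroup (H ⧸ K), L.Normal → L ≤ M → L = ⊥ ∨ L = M := by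
    intro L hL hLM
    have hKL : K ≤ L.comap π := fun k hk => by
      show π k ∈ L
      rw [show π k = 1 from (QuotientGroup.eq_one_iff k).2 hk]
      exact one_mem _
    by_cases haL : a ∈ L.comap π
    · right
      refine le_antisymm hLM (Subgroup.map_le_iff_le_comap.2 ?_)
      haveI := hL.comap π
      exact Subgroup.normalClosure_le_normal (Set.singleton_subset_iff.2 haL)
    · left
      have hLN : L.comap π ≤ N := fun x hx => by
        obtain ⟨u, hu, hux⟩ := hLM hx
        have hk : u⁻¹ * x ∈ K := (QuotientGroup.eq).1 hux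
        simpa using mul_mem hu (hKN hk)
      have h1 : K = L.comap π := by
        rcases hKL.lt_or_eq with h | h
        · exact absurd h (hmax _ ⟨hL.comap π, hLN, haL⟩)
        · exact h
      rw [eq_bot_iff]
      intro l hl
      obtain ⟨x, rfl⟩ := QuotientGroup.mk'_surjective K l
      exact Subgroup.mem_bot.2 ((QuotientGroup.eq_one_iff x).2 (h1.symm ▸ hl))
  have hpM : p ∣ Nat.card M := by
    have h1 : orderOf (π a) ∣ Nat.card M :=
      Subgroup.orderOf_dvd_natCard M (Subgroup.mem_map_of_mem π haN)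
    obtain ⟨k, hk⟩ := exists_prime_power hD ha
    obtain ⟨j, -, hj⟩ := (Nat.dvd_prime_pow hp.out).1 (hk ▸ orderOf_map_dvd π a)
    refine (dvd_pow_self p fun h0 => hπa ?_).trans (hj ▸ h1)
    rw [h0, pow_zero] at hj
    exact orderOf_eq_one_iff.1 hj
  have hMp := isPGroup_of_minimal (CfsgLib.PLocal.isPSolvable_quotient hH K) hpM hmin
  haveI := hMp.isNilpotent
  have hc := CfsgLib.Solvable.mul_comm_of_minimal_normal hM1 hmin (π a)
    (Subgroup.mem_map_of_mem π haN) (π b) (Subgroup.mem_map_of_mem π (hDN hb))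
  have hk : a * b * (b * a)⁻¹ ∈ K := by
    rw [← QuotientGroup.eq_one_iff]
    show π (a * b * (b * a)⁻¹) = 1
    rw [map_mul, map_mul, map_inv, map_mul, hc, mul_inv_cancel]
  by_contra hne
  refine haK ((hmem K hKn _ (mul_mem (mul_mem ha hb) (inv_mem (mul_mem hb ha))) ?_).1 hk)
  exact fun h => hne (mul_inv_eq_one.1 h)

end CfsgLib.OneClassP
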