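import Cfsg.Agent.OneClassP.Action
import Cfsg.Agent.Transfer.Alperin
import Cfsg.Agent.S0205
import Mathlib.GroupTheory.FixedPointFree
import Mathlib.GroupTheory.Transfer

/-!
# Fusion when centralisers of `p`-elements are `p`-nilpotent and `p`-elements have order `p`

For an odd prime `p` the normaliser of a Sylow `p`-subgroup then controls fusion; in particular, if
moreover all nontrivial `p`-elements are conjugate, a Sylow `p`-subgroup is abelian.
-/

set_option autoImplicit false
set_option linter.unusedSectionVars false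
set_option linter.style.haveILetI false

namespace CfsgLib.OneClassP

open Subgroup Finset CfsgLib.Transfer
open scoped Pointwise IsMulCommutative

universe u

variable {G : Type u} [Group G] [Finite G] {p : ℕ} [Fact p.Prime]

/-- The hypothesis on centralisers and orders. -/
structure Hyp (p : ℕ) (G : Type u) [Group G] : Prop where
  odd : p ≠ 2
  order : ∀ y : G, (∃ k, orderOf y = p ^ k) → y ^ p = 1
  compl : ∀ y : G, (∃ k, orderOf y = p ^ k) → y ≠ 1 → ∃ K : Subgroup G,
    (centralizer ({y} : Set G) ≤ normalizer (K : Set G)) ∧ ¬ p ∣ Nat.card K ∧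
      ∀ g ∈ centralizer ({y} : Set G), ¬ p ∣ orderOf g → g ∈ K

theorem exists_prime_power {Q : Subgroup G} (hQ : IsPGroup p Q) {y : G} (hy : y ∈ Q) :
    ∃ k, orderOf y = p ^ k := by
  obtain ⟨k, hk⟩ := hQ ⟨y, hy⟩
  obtain ⟨j, -, hj⟩ := (Nat.dvd_prime_pow Fact.out).1
    (orderOf_dvd_of_pow_eq_one (congrArg Subtype.val hk : y ^ p ^ k = 1))
  exact ⟨j, hj⟩

/-- An element of order prime to `p` fixing a nontrivial element of a `p`-subgroup it normalises
centralises it. -/
theorem Hyp.centralizes_of_fix (h : Hyp p G) {Q : Subgroup G} (hQ : IsPGroup p Q) {g n : G}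
    (hg : g ∈ normalizer (Q : Set G)) (hgp : ¬ p ∣ orderOf g) (hn : n ∈ Q) (hn1 : n ≠ 1)
    (hgn : Commute g n) : g ∈ centralizer (Q : Set G) := by
  have step : ∀ m ∈ Q, m ≠ 1 → Commute g m → ∀ q ∈ Q, Commute q m → Commute g q := by
    intro m hm hm1 hgm q hq hqm
    obtain ⟨K, hKn, hKp, hKmem⟩ := h.compl m (exists_prime_power hQ hm) hm1
    have hgC : g ∈ centralizer ({m} : Set G) := mem_centralizer_singleton_iff.2 hgm
    have hqC : q ∈ centralizer ({m} : Set G) := mem_centralizer_singleton_iff.2 hqm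
    have hgK := hKmem g hgC hgp
    have h1 : g * q * g⁻¹ * q⁻¹ ∈ Q :=
      mul_mem ((mem_normalizer_iff.1 hg q).1 hq) (inv_mem hq)
    have h2 : g * q * g⁻¹ * q⁻¹ ∈ K := by
      rw [mul_assoc, mul_assoc, ← mul_assoc q]
      exact mul_mem hgK ((mem_normalizer_iff.1 (hKn hqC) _).1 (inv_mem hgK))
    obtain ⟨k, hk⟩ := exists_prime_power hQ h1
    rcases Nat.eq_zero_or_pos k with rfl | hpos
    · rw [pow_zero, orderOf_eq_one_iff, mul_inv_eq_one, mul_inv_eq_iff_eq_mul] at hk
      exact hk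
    · refine absurd ?_ hKp
      refine ((dvd_pow_self p hpos.ne').trans (dvd_of_eq hk.symm)).trans ?_
      exact Subgroup.orderOf_dvd_natCard K h2
  haveI : Nontrivial Q := ⟨⟨⟨n, hn⟩, 1, fun h' => hn1 (congrArg Subtype.val h')⟩⟩
  haveI := hQ.center_nontrivial
  obtain ⟨z, hz1⟩ := exists_ne (1 : center Q)
  have hzc : ∀ q ∈ Q, Commute q ((z : Q) : G) := fun q hq =>
    congrArg Subtype.val (mem_center_iff.1 z.2 ⟨q, hq⟩)
  have hgz : Commute g ((z : Q) : G) := step n hn hn1 hgn _ (z : Q).2 (hzc n hn).symm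
  exact mem_centralizer_iff.2 fun q hq =>
    ((step _ (z : Q).2 (fun h' => hz1 (Subtype.ext (Subtype.ext h'))) hgz q hq (hzc q hq)).eq).symm

/-- A `p`-regular power with the same image. -/
theorem exists_regular_lift {N : Type*} [Group N] {A : Type*} [Group A] [Finite N] (φ : N →* A)
    (h : N) (ha : ¬ p ∣ orderOf (φ h)) :
    ∃ k : ℕ, φ (h ^ k) = φ h ∧ ¬ p ∣ orderOf (h ^ k) := by
  obtain ⟨m, hm⟩ := exists_pow_eq_self_of_coprime (x := φ h) (n := ordProj[p] (orderOf h))
    (((Fact.out : p.Prime).coprime_iff_not_dvd.2 ha).pow_left _)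
  refine ⟨ordProj[p] (orderOf h) * m, by rw [pow_mul, map_pow, map_pow, hm], fun hd => ?_⟩
  have h1 : (h ^ (ordProj[p] (orderOf h) * m)) ^ ordCompl[p] (orderOf h) = 1 := by
    rw [← pow_mul, mul_right_comm, Nat.ordProj_mul_ordCompl_eq_self, pow_mul, pow_orderOf_eq_one,
      one_pow]
  exact Nat.not_dvd_ordCompl Fact.out (orderOf_pos h).ne'
    (hd.trans (orderOf_dvd_of_pow_eq_one h1))

/-- A power of `p`-power order with the same image. -/
theorem exists_primary_lift {N : Type*} [Group N] {A : Type*} [Group A] [Finite N] (φ : N →* A)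
    (h : N) (ha : ∃ k, orderOf (φ h) = p ^ k) :
    ∃ k : ℕ, φ (h ^ k) = φ h ∧ ∃ j, orderOf (h ^ k) = p ^ j := by
  obtain ⟨e, he⟩ := ha
  obtain ⟨m, hm⟩ := exists_pow_eq_self_of_coprime (x := φ h) (n := ordCompl[p] (orderOf h))
    (by rw [he]; exact ((Nat.coprime_ordCompl Fact.out (orderOf_pos h).ne').symm).pow_right e)
  refine ⟨ordCompl[p] (orderOf h) * m, by rw [pow_mul, map_pow, map_pow, hm], ?_⟩
  have h1 : (h ^ (ordCompl[p] (orderOf h) * m)) ^ ordProj[p] (orderOf h) = 1 := by
    rw [← pow_mul, mul_right_comm, mul_comm (ordCompl[p] _),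
      Nat.ordProj_mul_ordCompl_eq_self, pow_mul, pow_orderOf_eq_one, one_pow]
  obtain ⟨j, -, hj⟩ := (Nat.dvd_prime_pow Fact.out).1 (orderOf_dvd_of_pow_eq_one h1)
  exact ⟨j, hj⟩

/-- An element normalising the preimage of the image of a Sylow subgroup has a translate by the
kernel normalising the Sylow subgroup. -/
theorem exists_normalizing_lift {N : Type*} [Group N] [Finite N] {A : Type*} [Group A] (φ : N →* A)
    (S : Subgroup N) (g : N) (hS : ¬ p ∣ S.index)
    (hg : g ∈ normalizer (((S.map φ).comap φ : Subgroup N) : Set N)) (hSp : IsPGroup p S) :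
    ∃ g' : N, g' ∈ normalizer (S : Set N) ∧ φ g' = φ g := by
  obtain ⟨k, hk⟩ := IsPGroup.iff_card.1 hSp
  have hcard : Nat.card S = p ^ (Nat.card N).factorization p := by
    rw [hk, ← S.card_mul_index, hk, Nat.factorization_mul (pow_ne_zero _ (Fact.out : p.Prime).ne_zero)
      index_ne_zero_of_finite, (Fact.out : p.Prime).factorization_pow]
    simp [Nat.factorization_eq_zero_of_not_dvd hS]
  let P : Sylow p N := Sylow.ofCard S hcard
  set M := (S.map φ).comap φ with hM
  have hSM : S ≤ M := le_comap_map φ S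
  let PM : Sylow p M := P.subtype hSM
  obtain ⟨y, hy⟩ := MulAction.exists_smul_eq M PM
    ((normalizerMonoidHom M ⟨g, hg⟩ : MulAut M) • PM)
  have hy' : MulAut.conj y • (PM : Subgroup M) =
      (normalizerMonoidHom M ⟨g, hg⟩ : MulAut M) • (PM : Subgroup M) :=
    congrArg Sylow.toSubgroup hy
  obtain ⟨s, hs, hsy⟩ := (show φ (y : N) ∈ S.map φ from y.2)
  refine ⟨s * ((y : N)⁻¹ * g), mul_mem (le_normalizer hs) (mem_normalizer_fintype fun x hx => ?_),
    by rw [map_mul, map_mul, map_inv, hsy, mul_inv_cancel_left]⟩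
  have h1 : (normalizerMonoidHom M ⟨g, hg⟩ : MulAut M) • (⟨x, hSM hx⟩ : M) ∈
      (normalizerMonoidHom M ⟨g, hg⟩ : MulAut M) • (PM : Subgroup M) :=
    smul_mem_pointwise_smul _ _ _ (show (⟨x, hSM hx⟩ : M) ∈ S.subgroupOf M from hx)
  rw [← hy', mem_pointwise_smul_iff_inv_smul_mem] at h1
  have h2 : (((MulAut.conj y)⁻¹ • (normalizerMonoidHom M ⟨g, hg⟩ : MulAut M) •
      (⟨x, hSM hx⟩ : M) : M) : N) ∈ S := h1
  rw [SetLike.mem_coe]
  convert h2 using 1
  simp [normalizerMonoidHom]
  rw [show ((⟨g, hg⟩ : normalizer (M : Set N)) • (⟨x, hSM hx⟩ : M) : M).1 = g * x * g⁻¹ from rfl]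
  group

/-- The action of the automiser on the centre. -/
noncomputable def centerAct (D : Subgroup G) :
    (normalizerMonoidHom D).range →* MulAut (center D) :=
  { toFun := fun a => Subgroup.centerCongr (a : MulAut D)
    map_one' := MulEquiv.ext fun _ => rfl
    map_mul' := fun _ _ => MulEquiv.ext fun _ => rfl }

/-- The image of `P ⊓ N(D)` in the automiser of `D` is normal. -/
theorem Hyp.image_normal (h : Hyp p G) (P : Sylow p G) {D : Subgroup G} (hD : D ≤ (P : Subgroup G))
    (hD1 : D ≠ ⊥)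
    (htame : ¬ p ∣ ((P : Subgroup G) ⊓ normalizer (D : Set G)).relIndex (normalizer (D : Set G))) :
    (((P : Subgroup G).subgroupOf (normalizer (D : Set G))).map
      (normalizerMonoidHom D).rangeRestrict).Normal := by
  set N := normalizer (D : Set G) with hN
  set φ := (normalizerMonoidHom D).rangeRestrict with hφdef
  have hsurj : Function.Surjective φ := (normalizerMonoidHom D).rangeRestrict_surjective
  have hDp : IsPGroup p D := P.isPGroup'.to_le hD
  have happ : ∀ (g : N) (d : D), (((φ g : (normalizerMonoidHom D).range) : MulAut D) d : G) =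
      (g : G) * (d : G) * (g : G)⁻¹ := fun _ _ => rfl
  have hfix1 : ∀ g : N, ¬ p ∣ orderOf g → ∀ d : D, d ≠ 1 →
      ((φ g : (normalizerMonoidHom D).range) : MulAut D) d = d → φ g = 1 := by
    intro g hg d hd hfix
    have hc : Commute (g : G) (d : G) :=
      mul_inv_eq_iff_eq_mul.1 ((happ g d).symm.trans (congrArg Subtype.val hfix))
    have hcent := h.centralizes_of_fix hDp g.2 (by rwa [Subgroup.orderOf_coe]) d.2
      (fun h' => hd (Subtype.ext h')) hc
    refine Subtype.ext (MulEquiv.ext fun e => Subtype.ext ?_)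
    rw [happ]
    show (g : G) * (e : G) * (g : G)⁻¹ = (e : G)
    rw [← mem_centralizer_iff.1 hcent e e.2, mul_inv_cancel_right]
  have hfree : ∀ a : (normalizerMonoidHom D).range, a ≠ 1 → ¬ p ∣ orderOf a → ∀ d : D,
      (a : MulAut D) d = d → d = 1 := by
    intro a ha1 hap d hfix
    by_contra hd
    obtain ⟨g, rfl⟩ := hsurj a
    obtain ⟨k, hk, hkp⟩ := exists_regular_lift φ g hap
    exact ha1 (hk ▸ hfix1 (g ^ k) hkp d hd (hk.symm ▸ hfix))
  rcases Nat.even_or_odd (Nat.card (normalizerMonoidHom D).range) with heven | hodd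
  · -- an involution inverts `D` and is central; the image is trivial
    haveI : Fact (Nat.Prime 2) := ⟨Nat.prime_two⟩
    obtain ⟨t, ht⟩ := exists_prime_orderOf_dvd_card' 2 (even_iff_two_dvd.1 heven)
    have ht1 : t ≠ 1 := fun h' => by rw [h', orderOf_one] at ht; omega
    have htp : ¬ p ∣ orderOf t := by
      rw [ht]
      exact fun h' => h.odd ((Nat.prime_dvd_prime_iff_eq Fact.out Nat.prime_two).1 h')
    have hinv : ∀ d : D, (t : MulAut D) d = d⁻¹ := by
      intro d
      refine congrFun (MonoidHom.FixedPointFree.coe_eq_inv_of_involutive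
        (φ := (t : MulAut D)) (hfree t ht1 htp) fun e => ?_) d
      have h2 : t * t = 1 := by rw [← sq, ← ht, pow_orderOf_eq_one]
      exact DFunLike.congr_fun (congrArg Subtype.val h2) e
    have hcomm : ∀ a : (normalizerMonoidHom D).range, a * t = t * a := fun a =>
      Subtype.ext (MulEquiv.ext fun d => by
        show (a : MulAut D) ((t : MulAut D) d) = (t : MulAut D) ((a : MulAut D) d)
        rw [hinv, hinv, map_inv])
    suffices hbot : ((P : Subgroup G).subgroupOf N).map φ = ⊥ by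
      rw [hbot]; infer_instance
    rw [eq_bot_iff]
    rintro _ ⟨n, hn, rfl⟩
    replace hn : n ∈ (P : Subgroup G).subgroupOf N := hn
    rw [mem_bot]
    by_contra hn1
    -- lift `t` to a 2-element normalising `P ⊓ N`
    obtain ⟨g₀, hg₀⟩ := hsurj t
    set L := ((P : Subgroup G).subgroupOf N).map φ with hL
    set M := L.comap φ with hM
    have hgM : g₀ ∈ normalizer (M : Set N) := by
      refine mem_normalizer_iff.2 fun x => ?_
      show φ x ∈ L ↔ φ (g₀ * x * g₀⁻¹) ∈ L
      rw [map_mul, map_mul, hg₀, map_inv, hg₀, ← hcomm, mul_inv_cancel_right]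
    obtain ⟨g₁, hg₁, hg₁φ⟩ := exists_normalizing_lift φ _ g₀
      (by rw [inf_relIndex_right] at htame; exact htame) hgM
      P.isPGroup'.comap_subtype
    have ht2 : ∃ k, orderOf (φ g₁) = 2 ^ k := ⟨1, by rw [hg₁φ, hg₀, ht, pow_one]⟩
    obtain ⟨k, hk, j, hj⟩ := exists_primary_lift φ g₁ ht2
    set g := g₁ ^ k with hg
    have hgt : φ g = t := by rw [hk, hg₁φ, hg₀]
    have hgn : g ∈ normalizer (((P : Subgroup G).subgroupOf N : Subgroup N) : Set N) :=
      pow_mem hg₁ _
    -- `g` fixes a point of the fibre of `n`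
    let X := {x : N // x ∈ (P : Subgroup G).subgroupOf N ∧ φ x = φ n}
    have hconj : ∀ z ∈ zpowers g, ∀ x : N, x ∈ (P : Subgroup G).subgroupOf N ∧ φ x = φ n →
        z * x * z⁻¹ ∈ (P : Subgroup G).subgroupOf N ∧ φ (z * x * z⁻¹) = φ n := by
      intro z hz x hx
      refine ⟨(mem_normalizer_iff.1 ((zpowers_le.2 hgn) hz) x).1 hx.1, ?_⟩
      obtain ⟨m, rfl⟩ := hz
      rw [map_mul, map_mul, map_inv, map_zpow, hgt, hx.2,
        ((show Commute (φ n) t from hcomm _).zpow_right m).symm.eq, mul_inv_cancel_right]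
    letI act : MulAction (zpowers g) X :=
      { smul := fun z x => ⟨(z : N) * x.1 * (z : N)⁻¹, hconj z z.2 x.1 x.2⟩
        one_smul := fun x => Subtype.ext (show (1 : N) * x.1 * (1 : N)⁻¹ = x.1 by simp)
        mul_smul := fun y z x => Subtype.ext (show ((y * z : zpowers g) : N) * x.1 *
          ((y * z : zpowers g) : N)⁻¹ = (y : N) * ((z : N) * x.1 * (z : N)⁻¹) * (y : N)⁻¹ by
            push_cast; group) }
    have hXcard : ¬ 2 ∣ Nat.card X := by
      let e : X ≃ ((φ.ker) ⊓ (P : Subgroup G).subgroupOf N : Subgroup N) :=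
        { toFun := fun x => ⟨x.1 * n⁻¹, by
            refine Subgroup.mem_inf.2 ⟨?_, mul_mem x.2.1 (inv_mem hn)⟩
            show φ (x.1 * n⁻¹) = 1
            rw [map_mul, map_inv, x.2.2, mul_inv_cancel]⟩
          invFun := fun y => ⟨y.1 * n, mul_mem y.2.2 hn, by
            rw [map_mul, show φ y.1 = 1 from y.2.1, one_mul]⟩
          left_inv := fun x => Subtype.ext (inv_mul_cancel_right _ _)
          right_inv := fun y => Subtype.ext (mul_inv_cancel_right _ _) }
      rw [Nat.card_congr e]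
      obtain ⟨e', he'⟩ := IsPGroup.iff_card.1
        (show IsPGroup p (φ.ker ⊓ (P : Subgroup G).subgroupOf N : Subgroup N) from
          (P.isPGroup'.comap_subtype (K := N)).to_le inf_le_right)
      rw [he']
      exact fun h' => h.odd ((Nat.prime_dvd_prime_iff_eq Nat.prime_two Fact.out).1
        (Nat.prime_two.dvd_of_dvd_pow h')).symm
    have hz2 : IsPGroup 2 (zpowers g) := IsPGroup.of_card (n := j) (by rw [Nat.card_zpowers, hj])
    obtain ⟨x, hx⟩ := hz2.nonempty_fixed_point_of_prime_not_dvd_card X hXcard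
    have hgx : g * x.1 * g⁻¹ = x.1 := congrArg Subtype.val (hx ⟨g, mem_zpowers g⟩)
    have hx1 : (x.1 : G) ≠ 1 := fun h' => hn1 (by
      rw [← x.2.2, show x.1 = 1 from Subtype.ext h', map_one])
    have hgP : (g : G) ∈ normalizer (((P : Subgroup G) ⊓ N : Subgroup G) : Set G) := by
      refine mem_normalizer_iff.2 fun y => ⟨fun hy => ?_, fun hy => ?_⟩
      · have := (mem_normalizer_iff.1 hgn ⟨y, hy.2⟩).1 (mem_subgroupOf.2 hy.1)
        exact ⟨mem_subgroupOf.1 this, (g * ⟨y, hy.2⟩ * g⁻¹ : N).2⟩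
      · have hyN : y ∈ N := by
          have := (g⁻¹ * ⟨_, hy.2⟩ * g : N).2
          simpa [mul_assoc] using this
        exact ⟨mem_subgroupOf.1 ((mem_normalizer_iff.1 hgn ⟨y, hyN⟩).2
          (mem_subgroupOf.2 hy.1)), hyN⟩
    have hgp' : ¬ p ∣ orderOf (g : G) := by
      rw [Subgroup.orderOf_coe, hj]
      exact fun h' => h.odd ((Nat.prime_dvd_prime_iff_eq Fact.out Nat.prime_two).1
        ((Fact.out : p.Prime).dvd_of_dvd_pow h'))
    have hcen := h.centralizes_of_fix P.isPGroup'.to_inf_left hgP hgp'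
      ⟨mem_subgroupOf.1 x.2.1, x.1.2⟩ hx1
      (mul_inv_eq_iff_eq_mul.1 (congrArg Subtype.val hgx))
    apply ht1
    rw [← hgt]
    refine Subtype.ext (MulEquiv.ext fun e => Subtype.ext ?_)
    rw [happ]
    show (g : G) * (e : G) * (g : G)⁻¹ = (e : G)
    rw [← mem_centralizer_iff.1 hcen e ⟨hD e.2, le_normalizer e.2⟩, mul_inv_cancel_right]
  · -- odd order: the automiser is solvable with a normal Sylow subgroup
    haveI : Nontrivial D := D.bot_or_nontrivial.resolve_left hD1
    haveI := hDp.center_nontrivial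
    obtain ⟨v₀, hv₀⟩ := exists_ne (1 : center D)
    have hfree' : ∀ a : (normalizerMonoidHom D).range, a ≠ 1 → ¬ p ∣ orderOf a →
        ∀ w : center D, centerAct D a w = w → w = 1 := fun a ha hap w hw =>
      Subtype.ext (hfree a ha hap (w : D) (congrArg Subtype.val hw))
    have hnorm : ∀ s : (normalizerMonoidHom D).range, (∃ k, orderOf s = p ^ k) →
        s ^ p = 1 ∧ ∀ v : center D, ∏ i ∈ range p, centerAct D (s ^ i) v = 1 := by
      intro s hs
      obtain ⟨g, rfl⟩ := hsurj s
      obtain ⟨k, hk, j, hj⟩ := exists_primary_lift φ g hs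
      rw [← hk]
      generalize g ^ k = g at hj
      have hgp : (g : G) ^ p = 1 := h.order _ ⟨j, by rw [Subgroup.orderOf_coe, hj]⟩
      refine ⟨by rw [← map_pow, show g ^ p = 1 from Subtype.ext hgp, map_one], fun v => ?_⟩
      have hprod : ∀ m, (((∏ i ∈ range m, centerAct D (φ g ^ i) v : center D) : D) : G) *
          (g : G) ^ m = (((v : D) : G) * (g : G)) ^ m := by
        intro m
        induction m with
        | zero => simp
        | succ m ih =>
          rw [prod_range_succ, Subgroup.coe_mul, Subgroup.coe_mul, pow_succ (((v : D) : G) * _),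
            ← ih, ← map_pow]
          show _ * (((φ (g ^ m) : (normalizerMonoidHom D).range) : MulAut D) (v : D) : G) * _ = _
          rw [happ, pow_succ, SubmonoidClass.coe_pow]
          group
      have hvg : (((v : D) : G) * (g : G)) ^ p = 1 := by
        refine h.order _ ?_
        have hR : IsPGroup p (D ⊔ zpowers (g : G) : Subgroup G) :=
          IsPGroup.to_sup_of_normal_left' hDp (IsPGroup.of_card (n := j) (by
            rw [Nat.card_zpowers, Subgroup.orderOf_coe, hj])) (zpowers_le.2 g.2)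
        exact exists_prime_power hR
          (mul_mem (mem_sup_left (v : D).2) (mem_sup_right (mem_zpowers _)))
      have := hprod p
      rw [hgp, mul_one, hvg] at this
      exact Subtype.ext (Subtype.ext this)
    have hcinv := centralizesInvariant_of_free (centerAct D)
      (hDp.to_subgroup _) hv₀ hodd hfree' hnorm
    let PN : Sylow p N := Sylow.ofCard _ (card_subgroupOf_eq P htame)
    exact CentralizesInvariant.sylow_normal _ _ rfl (Cfsg.Agent.S0205.result hodd) hcinv
      (PN.mapSurjective hsurj)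

/-- Conjugation by `g` agrees on `A` with conjugation by an element of `N(P)`. -/
def Agrees (P : Sylow p G) (A : Set G) (g : G) : Prop :=
  ∃ n ∈ normalizer ((P : Subgroup G) : Set G), ∀ a ∈ A, g⁻¹ * a * g = n⁻¹ * a * n

/-- Chains whose steps agree with `N(P)` agree with `N(P)`. -/
theorem agrees_of_chain (P : Sylow p G) {k : ℕ}
    (hstep : ∀ Q : Sylow p G, IsTameInf P Q →
      k < Nat.card ((P : Subgroup G) ⊓ (Q : Subgroup G) : Subgroup G) →
      ∀ x ∈ normalizer ((((P : Subgroup G) ⊓ (Q : Subgroup G)) : Subgroup G) : Set G),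
        Agrees P (((P : Subgroup G) ⊓ (Q : Subgroup G) : Subgroup G) : Set G) x)
    {A : Set G} {g : G} (hc : FusionChain P A g) : k < Nat.card A → Agrees P A g := by
  induction hc with
  | nil A => exact fun _ => ⟨1, one_mem _, fun a _ => rfl⟩
  | cons A Q x g hA ht hx _ ih =>
    intro hk
    obtain ⟨n, hn, hnA⟩ := hstep Q ht
      (hk.trans_le (Nat.card_mono (Set.toFinite _) hA)) x hx
    have hinj : Function.Injective (fun a : G => x⁻¹ * a * x) := fun a b h => by simpa using h
    obtain ⟨m, hm, hmA⟩ := ih (by rwa [Nat.card_image_of_injective hinj])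
    refine ⟨n * m, mul_mem hn hm, fun a ha => ?_⟩
    calc (x * g)⁻¹ * a * (x * g) = g⁻¹ * (x⁻¹ * a * x) * g := by group
      _ = m⁻¹ * (x⁻¹ * a * x) * m := hmA _ ⟨a, ha, rfl⟩
      _ = (n * m)⁻¹ * a * (n * m) := by rw [hnA a (hA ha)]; group

/-- An element moving `P₀ ≤ P` into `P` agrees with `N(P)` when larger steps do. -/
theorem agrees_of_move (P : Sylow p G) {k : ℕ}
    (hstep : ∀ Q : Sylow p G, IsTameInf P Q →
      k < Nat.card ((P : Subgroup G) ⊓ (Q : Subgroup G) : Subgroup G) →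
      ∀ x ∈ normalizer ((((P : Subgroup G) ⊓ (Q : Subgroup G)) : Subgroup G) : Set G),
        Agrees P (((P : Subgroup G) ⊓ (Q : Subgroup G) : Subgroup G) : Set G) x)
    {A : Set G} {w : G} (hA : A ⊆ (P : Set G)) (hw : ∀ a ∈ A, w⁻¹ * a * w ∈ (P : Subgroup G))
    (hk : k < Nat.card A) : Agrees P A w := by
  obtain ⟨g, hg, hgP⟩ := exists_fusionChain_smul P (w • P)
  have hsub : A ⊆ (((P : Subgroup G) ⊓ ((w • P : Sylow p G) : Subgroup G) : Subgroup G) : Set G) :=
    fun a ha => ⟨hA ha, mem_smul_iff.2 (hw a ha)⟩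
  obtain ⟨n, hn, hnA⟩ := agrees_of_chain P hstep (hg.mono hsub) hk
  have hm : g⁻¹ * w ∈ normalizer ((P : Subgroup G) : Set G) :=
    Sylow.smul_eq_iff_mem_normalizer.1 (by rw [mul_smul, hgP])
  refine ⟨n * (g⁻¹ * w), mul_mem hn hm, fun a ha => ?_⟩
  calc w⁻¹ * a * w = (g⁻¹ * w)⁻¹ * (g⁻¹ * a * g) * (g⁻¹ * w) := by group
    _ = (n * (g⁻¹ * w))⁻¹ * a * (n * (g⁻¹ * w)) := by rw [hnA a ha]; group

/-- Every step of a chain agrees with `N(P)`. -/
theorem Hyp.step_agrees (h : Hyp p G) (P : Sylow p G) : ∀ (r : ℕ) (Q : Sylow p G),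
    Nat.card G - Nat.card ((P : Subgroup G) ⊓ (Q : Subgroup G) : Subgroup G) = r → IsTameInf P Q →
    ∀ x ∈ normalizer ((((P : Subgroup G) ⊓ (Q : Subgroup G)) : Subgroup G) : Set G),
      Agrees P (((P : Subgroup G) ⊓ (Q : Subgroup G) : Subgroup G) : Set G) x := by
  intro r
  induction r using Nat.strong_induction_on with
  | _ r ih =>
  intro Q hr ht x hx
  set D := (P : Subgroup G) ⊓ (Q : Subgroup G) with hD
  by_cases hD1 : D = ⊥
  · refine ⟨1, one_mem _, fun a ha => ?_⟩
    rw [hD1, SetLike.mem_coe, mem_bot] at ha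
    simp [ha]
  by_cases hDP : D = (P : Subgroup G)
  · rw [hDP] at hx ⊢
    exact ⟨x, hx, fun a _ => rfl⟩
  have hlt : D < (P : Subgroup G) := lt_of_le_of_ne inf_le_left hDP
  set N := normalizer (D : Set G) with hN
  set φ := (normalizerMonoidHom D).rangeRestrict with hφ
  have hnorm := h.image_normal P (inf_le_left : D ≤ _) hD1 ht.1
  have hidx : ¬ p ∣ ((P : Subgroup G).subgroupOf N).index := by
    have := ht.1
    rw [inf_relIndex_right] at this
    exact this
  obtain ⟨g, hg, hgφ⟩ := exists_normalizing_lift φ ((P : Subgroup G).subgroupOf N) ⟨x, hx⟩ hidx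
    (by
      have hc := hnorm.comap φ
      refine mem_normalizer_iff.2 fun y => ⟨fun hy => hc.conj_mem y hy _, fun hy => ?_⟩
      have := hc.conj_mem _ hy (⟨x, hx⟩ : N)⁻¹
      rwa [show (⟨x, hx⟩ : N)⁻¹ * (⟨x, hx⟩ * y * (⟨x, hx⟩ : N)⁻¹) * ((⟨x, hx⟩ : N)⁻¹)⁻¹ = y
        by group] at this)
    P.isPGroup'.comap_subtype
  have hP0 := lt_inf_normalizer P.isPGroup' hlt
  have hmove : ∀ a ∈ (((P : Subgroup G) ⊓ N : Subgroup G) : Set G),
      (g : G)⁻¹ * a * (g : G) ∈ (P : Subgroup G) := by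
    intro a ha
    exact mem_subgroupOf.1 ((mem_normalizer_iff''.1 hg ⟨a, ha.2⟩).1 (mem_subgroupOf.2 ha.1))
  obtain ⟨n, hn, hnA⟩ := agrees_of_move P (k := Nat.card D) (fun Q' ht' hQ' =>
    ih _ (by
      have h2 := Nat.card_le_card_of_injective _
        ((P : Subgroup G) ⊓ (Q' : Subgroup G) : Subgroup G).subtype_injective
      omega) Q' rfl ht') (fun a ha => ha.1) hmove (card_lt_card_of_lt hP0)
  refine ⟨n, hn, fun a ha => ?_⟩
  rw [← hnA a (hP0.le ha)]
  have hx' : ((g : G) * x⁻¹) * a * ((g : G) * x⁻¹)⁻¹ = a := by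
    have h1 : φ (g * (⟨x, hx⟩ : N)⁻¹) = 1 := by rw [map_mul, map_inv, hgφ, mul_inv_cancel]
    exact congrArg Subtype.val
      (DFunLike.congr_fun (congrArg Subtype.val h1) (⟨a, ha⟩ : D))
  conv_rhs => rw [← hx']
  group

/-- `N(P)` controls fusion in `P`. -/
theorem Hyp.agrees (h : Hyp p G) (P : Sylow p G) {A : Set G} {w : G} (hA : A ⊆ (P : Set G))
    (hw : ∀ a ∈ A, w⁻¹ * a * w ∈ (P : Subgroup G)) : Agrees P A w := by
  rcases A.eq_empty_or_nonempty with rfl | hne
  · exact ⟨1, one_mem _, fun a ha => absurd ha (Set.notMem_empty a)⟩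
  exact agrees_of_move P (k := 0) (fun Q ht _ => h.step_agrees P _ Q rfl ht) hA hw
    (by haveI := hne.to_subtype; exact Nat.card_pos)

/-- If all nontrivial `p`-elements are conjugate, a Sylow subgroup is abelian. -/
theorem Hyp.sylow_comm (h : Hyp p G) (P : Sylow p G)
    (hconj : ∀ x y : G, x ∈ (P : Subgroup G) → y ∈ (P : Subgroup G) → x ≠ 1 → y ≠ 1 → IsConj x y) :
    ∀ x ∈ (P : Subgroup G), ∀ y ∈ (P : Subgroup G), x * y = y * x := by
  intro x hx y hy
  by_cases hx1 : x = 1
  · rw [hx1, one_mul, mul_one]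
  haveI : Nontrivial (P : Subgroup G) := ⟨⟨⟨x, hx⟩, 1, fun h' => hx1 (congrArg Subtype.val h')⟩⟩
  haveI := P.isPGroup'.center_nontrivial
  obtain ⟨z, hz⟩ := exists_ne (1 : center (P : Subgroup G))
  have hz1 : ((z : (P : Subgroup G)) : G) ≠ 1 := fun h' => hz (Subtype.ext (Subtype.ext h'))
  obtain ⟨c, hc⟩ := isConj_iff.1 (hconj x _ hx (z : (P : Subgroup G)).2 hx1 hz1)
  obtain ⟨n, hn, hnA⟩ := h.agrees P (A := {x}) (w := c⁻¹) (Set.singleton_subset_iff.2 hx)
    (by
      rintro a rfl
      rw [inv_inv, hc]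
      exact (z : (P : Subgroup G)).2)
  have hxz := hnA x rfl
  rw [inv_inv, hc] at hxz
  have hyn : n⁻¹ * y * n ∈ (P : Subgroup G) := (mem_normalizer_iff''.1 hn y).1 hy
  have h2 : (n⁻¹ * y * n) * (z : (P : Subgroup G)) = (z : (P : Subgroup G)) * (n⁻¹ * y * n) :=
    congrArg Subtype.val (mem_center_iff.1 z.2 ⟨_, hyn⟩)
  rw [hxz] at h2
  refine mul_left_cancel (a := n⁻¹) (mul_right_cancel (b := n) ?_)
  calc n⁻¹ * (x * y) * n = (n⁻¹ * x * n) * (n⁻¹ * y * n) := by group
    _ = (n⁻¹ * y * n) * (n⁻¹ * x * n) := h2.symm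
    _ = n⁻¹ * (y * x) * n := by group

end CfsgLib.OneClassP
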